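import Mathlib

/-!
Local lemmas for the invariance of the δ-invariant under flat extensions.
-/

namespace Groth.Agent.DeltaFlat

universe u

/-- A Noetherian local ring whose maximal ideal is generated by one non-zero-divisor is a domain
and integrally closed. -/
theorem isDomain_of_maximalIdeal_eq_span {R : Type*} [CommRing R] [IsLocalRing R]
    [IsNoetherianRing R] (t : R) (ht : IsLocalRing.maximalIdeal R = Ideal.span {t})
    (hreg : t ∈ nonZeroDivisors R ∨ t = 0) : IsDomain R ∧ IsIntegrallyClosed R := by
  have hdom : IsDomain R := by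
    rcases hreg with hreg | rfl
    · have hfac : ∀ x : R, x ≠ 0 → ∃ (k : ℕ) (v : R), IsUnit v ∧ x = t ^ k * v := by
        intro x hx
        have hbot := Ideal.iInf_pow_eq_bot_of_isLocalRing (IsLocalRing.maximalIdeal R)
          (IsLocalRing.maximalIdeal.isMaximal R).ne_top
        have hk : ∃ k, x ∉ IsLocalRing.maximalIdeal R ^ k := by
          by_contra! h
          exact hx (Ideal.mem_bot.1 (hbot ▸ (Ideal.mem_iInf.2 h)))
        classical
        have h0 : Nat.find hk ≠ 0 := fun h => by
          have := Nat.find_spec hk
          rw [h, pow_zero, Ideal.one_eq_top] at this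
          exact this trivial
        obtain ⟨k, hk'⟩ := Nat.exists_eq_succ_of_ne_zero h0
        have hmem : x ∈ IsLocalRing.maximalIdeal R ^ k :=
          not_not.1 (Nat.find_min hk (hk' ▸ Nat.lt_succ_self k))
        rw [ht, Ideal.span_singleton_pow, Ideal.mem_span_singleton] at hmem
        obtain ⟨v, rfl⟩ := hmem
        refine ⟨k, v, ?_, rfl⟩
        by_contra hv
        have hvm : v ∈ IsLocalRing.maximalIdeal R := hv
        rw [ht, Ideal.mem_span_singleton] at hvm
        obtain ⟨w, rfl⟩ := hvm
        refine Nat.find_spec hk ?_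
        rw [hk', ht, Ideal.span_singleton_pow, Ideal.mem_span_singleton]
        exact ⟨w, by rw [pow_succ]; ring⟩
      have : NoZeroDivisors R := ⟨fun {a b} hab => by
        by_contra! h
        obtain ⟨k, v, hv, rfl⟩ := hfac a h.1
        obtain ⟨l, w, hw, rfl⟩ := hfac b h.2
        have : t ^ (k + l) * (v * w) = 0 := by rw [← hab]; ring
        rw [mul_right_mem_nonZeroDivisors_eq_zero_iff (hv.mul hw).mem_nonZeroDivisors] at this
        exact nonZeroDivisors.ne_zero (pow_mem hreg (k + l)) this⟩
      exact NoZeroDivisors.to_isDomain R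
    · have hf : IsField R := IsLocalRing.isField_iff_maximalIdeal_eq.2 (by
        rw [ht, Ideal.span_singleton_zero])
      exact hf.isDomain
  refine ⟨hdom, ?_⟩
  have : IsPrincipalIdealRing R := by
    refine ((tfae_of_isNoetherianRing_of_isLocalRing_of_isDomain R).out 0 4).2 ?_
    exact ⟨⟨t, by rw [ht, Ideal.submodule_span_eq]⟩⟩
  infer_instance

/-- The local rings of a flat algebra `C` over `A'` at maximal ideals with reduced Artinian fibre
over principal maximal ideals are integrally closed domains. -/
theorem isDomain_localization {A' C : Type u} [CommRing A'] [CommRing C] [Algebra A' C]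
    [Module.Flat A' C] [IsNoetherianRing C] (n : Ideal C) [n.IsPrime] (q : Ideal A') [q.IsPrime]
    (hq : n.comap (algebraMap A' C) = q) [IsDomain (Localization.AtPrime q)]
    [IsPrincipalIdealRing (Localization.AtPrime q)]
    (hred : IsReduced (C ⧸ q.map (algebraMap A' C)))
    (hart : IsArtinianRing (C ⧸ q.map (algebraMap A' C))) :
    IsDomain (Localization.AtPrime n) ∧ IsIntegrallyClosed (Localization.AtPrime n) := by
  let T := Localization.AtPrime q
  let S := Localization.AtPrime n
  let φ : T →+* S := Localization.localRingHom q n (algebraMap A' C) hq.symm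
  let : Algebra T S := φ.toAlgebra
  have : IsScalarTower A' T S := IsScalarTower.of_algebraMap_eq fun a => by
    rw [RingHom.algebraMap_toAlgebra, Localization.localRingHom_to_map,
      ← IsScalarTower.algebraMap_apply]
  have : Module.Flat A' S := Module.Flat.trans A' C S
  have : Module.Flat T S := (Module.flat_iff_of_isLocalization T q.primeCompl S).2 inferInstance
  obtain ⟨π, hπ⟩ := (IsPrincipalIdealRing.principal (IsLocalRing.maximalIdeal T)).principal
  have hnS : IsLocalRing.maximalIdeal S = Ideal.span {φ π} := by
    refine le_antisymm ?_ ?_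
    · rw [← Localization.AtPrime.map_eq_maximalIdeal, Ideal.map_le_iff_le_comap]
      intro x hx
      let I := q.map (algebraMap A' C)
      have hnI : RingHom.ker (Ideal.Quotient.mk I) ≤ n := by
        rw [Ideal.mk_ker, Ideal.map_le_iff_le_comap, hq]
      let nb := n.map (Ideal.Quotient.mk I)
      have hnb : nb.IsPrime := Ideal.map_isPrime_of_surjective Ideal.Quotient.mk_surjective hnI
      have : IsArtinianRing (Localization.AtPrime nb) :=
        (IsArtinianRing.localization_surjective nb.primeCompl (Localization.AtPrime nb)).isArtinianRing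
      have hf : IsField (Localization.AtPrime nb) := IsArtinianRing.isField_of_isReduced_of_isLocalRing _
      have hx0 : algebraMap (C ⧸ I) (Localization.AtPrime nb) (Ideal.Quotient.mk I x) = 0 := by
        have hm := IsLocalRing.isField_iff_maximalIdeal_eq.1 hf
        rw [← Ideal.mem_bot, ← hm, IsLocalization.AtPrime.to_map_mem_maximal_iff _ nb]
        exact Ideal.mem_map_of_mem _ hx
      obtain ⟨⟨eb, heb⟩, he⟩ := (IsLocalization.map_eq_zero_iff nb.primeCompl _ _).1 hx0
      obtain ⟨e, rfl⟩ := Ideal.Quotient.mk_surjective eb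
      have hen : e ∉ n := fun h => heb (Ideal.mem_map_of_mem _ h)
      simp only at he
      rw [← map_mul, Ideal.Quotient.eq_zero_iff_mem] at he
      have hI : I.map (algebraMap C S) ≤ Ideal.span {φ π} := by
        rw [Ideal.map_map, ← IsScalarTower.algebraMap_eq, IsScalarTower.algebraMap_eq A' T S,
          ← Ideal.map_map, Localization.AtPrime.map_eq_maximalIdeal, hπ, Ideal.submodule_span_eq,
          Ideal.map_span, Set.image_singleton]
        rfl
      obtain ⟨u, hu⟩ := IsLocalization.map_units S (⟨e, hen⟩ : n.primeCompl)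
      have h1 := hI (Ideal.mem_map_of_mem _ he)
      rw [map_mul] at h1
      have h2 : algebraMap C S x = (↑u⁻¹ : S) * (algebraMap C S e * algebraMap C S x) := by
        rw [← mul_assoc, ← hu, Units.inv_mul, one_mul]
      rw [Ideal.mem_comap, h2]
      exact Ideal.mul_mem_left _ _ h1
    · rw [Ideal.span_le, Set.singleton_subset_iff]
      have hπm : π ∈ IsLocalRing.maximalIdeal T := by
        rw [hπ]; exact Submodule.mem_span_singleton_self π
      show π ∈ Ideal.comap φ (IsLocalRing.maximalIdeal S)
      have h04 : IsLocalHom φ ↔ Ideal.comap φ (IsLocalRing.maximalIdeal S) =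
          IsLocalRing.maximalIdeal T := (IsLocalRing.local_hom_TFAE φ).out 0 4
      rw [h04.1 (Localization.isLocalHom_localRingHom ..)]
      exact hπm
  refine isDomain_of_maximalIdeal_eq_span (φ π) hnS ?_
  by_cases hπ0 : π = 0
  · exact Or.inr (by rw [hπ0, map_zero])
  · left
    have hreg : IsSMulRegular S π := Module.Flat.isSMulRegular_of_nonZeroDivisors
      (mem_nonZeroDivisors_of_ne_zero hπ0)
    rw [mem_nonZeroDivisors_iff_right]
    intro y hy
    refine hreg ?_
    simp only [smul_zero]
    rw [Algebra.smul_def, RingHom.algebraMap_toAlgebra, mul_comm]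
    exact hy

/-- A ring with normal local rings is integrally closed in any ring where it sits with denominators
non-zero-divisors. -/
theorem mem_range_of_isIntegral {C Q : Type*} [CommRing C] [CommRing Q] (ι : C →+* Q)
    (hι : Function.Injective ι)
    (hloc : ∀ (n : Ideal C) [n.IsMaximal],
      IsDomain (Localization.AtPrime n) ∧ IsIntegrallyClosed (Localization.AtPrime n))
    {x : Q} (hx : ι.IsIntegralElem x) {c d : C} (hd : IsUnit (ι d)) (hcd : x * ι d = ι c) :
    x ∈ ι.range := by
  let J : Ideal C :=
    { carrier := {e | ι e * x ∈ ι.range}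
      zero_mem' := ⟨0, by simp⟩
      add_mem' := fun {a b} ha hb => by
        simp only [Set.mem_ofPred_eq, map_add, add_mul] at ha hb ⊢
        exact add_mem ha hb
      smul_mem' := fun a b hb => by
        simp only [Set.mem_ofPred_eq, smul_eq_mul, map_mul, mul_assoc] at hb ⊢
        exact mul_mem ⟨a, rfl⟩ hb }
  by_contra hne
  have hJ : J ≠ ⊤ := fun h => hne (by
    have : (1 : C) ∈ J := h ▸ Submodule.mem_top
    simpa [J] using this)
  obtain ⟨n, hn, hJn⟩ := Ideal.exists_le_maximal J hJ
  obtain ⟨_, _⟩ := hloc n
  let S := Localization.AtPrime n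
  have hd0 : d ∈ nonZeroDivisors C := by
    rw [mem_nonZeroDivisors_iff_right]
    intro y hy
    apply hι
    rw [map_zero]
    have := congrArg ι hy
    rw [map_mul, map_zero] at this
    exact hd.mul_left_eq_zero.1 this
  have hdS : algebraMap C S d ≠ 0 := fun h => by
    obtain ⟨⟨e, he⟩, he'⟩ := (IsLocalization.map_eq_zero_iff n.primeCompl S d).1 h
    simp only at he'
    exact he ((mem_nonZeroDivisors_iff_right.1 hd0 e he') ▸ n.zero_mem)
  let F := FractionRing S
  let y : F := algebraMap C F c / algebraMap C F d
  obtain ⟨P, hP, hPx⟩ := hx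
  have hy : IsIntegral S y := by
    refine ⟨P.map (algebraMap C S), hP.map _, ?_⟩
    rw [Polynomial.eval₂_map, ← IsScalarTower.algebraMap_eq]
    have hdF : algebraMap C F d ≠ 0 := by
      rw [IsScalarTower.algebraMap_apply C S F]
      exact fun h => hdS (IsFractionRing.injective S F (h.trans (map_zero _).symm))
    -- clear denominators: the scaled polynomial kills `c`
    have hc : Polynomial.eval₂ ι (ι c) (P.scaleRoots d) = 0 := by
      rw [← hcd, mul_comm]
      exact Polynomial.scaleRoots_eval₂_eq_zero _ hPx
    have hc' : (P.scaleRoots d).eval c = 0 := by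
      apply hι
      rw [map_zero, ← Polynomial.eval₂_at_apply]
      exact hc
    have hc'' : Polynomial.eval₂ (algebraMap C F) (algebraMap C F c) (P.scaleRoots d) = 0 := by
      rw [Polynomial.eval₂_at_apply, hc', map_zero]
    have hc3 : Polynomial.eval₂ (algebraMap C F) (algebraMap C F d * y) (P.scaleRoots d) = 0 := by
      rwa [mul_div_cancel₀ _ hdF]
    rw [Polynomial.scaleRoots_eval₂_mul, mul_eq_zero] at hc3
    exact hc3.resolve_left (pow_ne_zero _ hdF)
  obtain ⟨z, hz⟩ := IsIntegrallyClosed.isIntegral_iff.1 hy
  obtain ⟨u, ⟨v, hv⟩, rfl⟩ := IsLocalization.exists_mk'_eq n.primeCompl z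
  have hdF : algebraMap C F d ≠ 0 := by
    rw [IsScalarTower.algebraMap_apply C S F]
    exact fun h => hdS (IsFractionRing.injective S F (h.trans (map_zero _).symm))
  have h1 : algebraMap C S (u * d) = algebraMap C S (v * c) := by
    apply IsFractionRing.injective S F
    have h0 := congrArg (algebraMap S F) (IsLocalization.mk'_spec S u ⟨v, hv⟩)
    rw [map_mul, hz, ← IsScalarTower.algebraMap_apply, ← IsScalarTower.algebraMap_apply] at h0
    rw [map_mul, map_mul, map_mul, map_mul, ← IsScalarTower.algebraMap_apply,
      ← IsScalarTower.algebraMap_apply, ← IsScalarTower.algebraMap_apply,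
      ← IsScalarTower.algebraMap_apply, ← h0]
    rw [show y * algebraMap C F v * algebraMap C F d = algebraMap C F v * (y * algebraMap C F d)
      by ring, div_mul_cancel₀ _ hdF]
  obtain ⟨⟨e, he⟩, he'⟩ := (IsLocalization.eq_iff_exists n.primeCompl S).1 h1
  simp only at he'
  have hev : e * v ∉ n := fun h => (hn.isPrime.mem_or_mem h).elim he hv
  refine hev (hJn ?_)
  show ι (e * v) * x ∈ ι.range
  refine ⟨e * u, hd.mul_right_cancel ?_⟩
  rw [mul_assoc, hcd, ← map_mul, ← map_mul, mul_assoc, he', mul_assoc]

end Groth.Agent.DeltaFlat
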