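import Groth.Prelude.Def_Curv2
import Groth.Agent.ReducedNormalization.Basic
import Groth.Agent.DeltaFlat.Local

/-!
Invariance of the δ-invariant under flat extensions with reduced fibres.
-/

namespace Groth.Agent.DeltaFlat

open TensorProduct

universe u

variable {A : Type u} [CommRing A]

/-- The local rings at maximal ideals of a normal ring finite over a one-dimensional local ring
are PIDs. -/
theorem isPrincipalIdealRing_localization [IsLocalRing A] [IsNoetherianRing A]
    [Ring.KrullDimLE 1 A] {A' : Type u} [CommRing A'] [Algebra A A'] [Module.Finite A A']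
    (q : Ideal A') [hq : q.IsMaximal] [IsDomain (Localization.AtPrime q)]
    [IsIntegrallyClosed (Localization.AtPrime q)] :
    IsPrincipalIdealRing (Localization.AtPrime q) := by
  let T := Localization.AtPrime q
  have : IsNoetherianRing A' := IsNoetherianRing.of_finite A A'
  have : IsNoetherianRing T := IsLocalization.isNoetherianRing q.primeCompl T inferInstance
  have : Ring.DimensionLEOne T := by
    refine ⟨fun {P} hP hPp => ?_⟩
    have hu := (IsLocalization.isPrime_iff_isPrime_disjoint q.primeCompl T P).1 hPp
    set Q := P.under A' with hQ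
    have hQp : Q.IsPrime := hu.1
    have hQq : Q ≤ q := fun b hb => not_not.1 fun hbq => Set.disjoint_left.1 hu.2 hbq hb
    have hbotp := (IsLocalization.isPrime_iff_isPrime_disjoint q.primeCompl T ⊥).1 Ideal.isPrime_bot
    set K0 := (⊥ : Ideal T).under A' with hK0
    have hK0p : K0.IsPrime := hbotp.1
    have hlt : K0 < Q := lt_of_le_of_ne (Ideal.comap_mono bot_le) fun h => hP (by
      rw [← IsLocalization.map_under q.primeCompl T P, ← hQ, ← h, hK0,
        IsLocalization.map_under q.primeCompl T])
    have h2 := Ideal.IsIntegral.comap_lt_comap (R := A) hlt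
    have hmax : (Q.comap (algebraMap A A')).IsMaximal :=
      (Ring.krullDimLE_one_iff.1 inferInstance _ (Ideal.IsPrime.comap _)).resolve_left fun hm =>
        h2.not_ge (hm.2 ⟨Ideal.IsPrime.comap _, bot_le⟩ h2.le)
    have hQm : Q.IsMaximal := Ideal.isMaximal_of_isIntegral_of_isMaximal_comap Q hmax
    have hQeq : Q = q := hQm.eq_of_le hq.ne_top hQq
    have : P = IsLocalRing.maximalIdeal T := by
      rw [← IsLocalization.map_under q.primeCompl T P, ← hQ, hQeq,
        Localization.AtPrime.map_eq_maximalIdeal]
    rw [this]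
    exact IsLocalRing.maximalIdeal.isMaximal T
  have : IsDedekindRing T := (isDedekindRing_iff T (FractionRing T)).2
    ⟨inferInstance, inferInstance, fun h => IsIntegrallyClosed.isIntegral_iff.1 h⟩
  have : IsDedekindDomain T := ⟨⟩
  have h02 : IsPrincipalIdealRing T ↔ IsDedekindDomain T :=
    (tfae_of_isNoetherianRing_of_isLocalRing_of_isDomain T).out 0 2
  have : IsPrincipalIdealRing T := h02.2 inferInstance
  exact this

variable {B : Type u} [CommRing B] [Algebra A B]

/-- The image of a non-zero-divisor in a flat algebra is a non-zero-divisor. -/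
theorem algebraMap_mem_nonZeroDivisors [Module.Flat A B] {a : A} (ha : a ∈ nonZeroDivisors A) :
    algebraMap A B a ∈ nonZeroDivisors B := by
  have hreg : IsSMulRegular B a := Module.Flat.isSMulRegular_of_nonZeroDivisors ha
  rw [mem_nonZeroDivisors_iff_right]
  intro y hy
  refine hreg ?_
  simp only [smul_zero]
  rw [Algebra.smul_def, mul_comm]
  exact hy

/-- The fibre of the base change over a prime of the normalization. -/
theorem exists_fibre_hom {A' : Type u} [CommRing A'] [Algebra A A'] (q : Ideal A') :
    ∃ φ : ((B ⊗[A] A') ⧸ q.map (Algebra.TensorProduct.includeRight (R := A) (A := B) (B := A')))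
      →+* B ⊗[A] (A' ⧸ q), Function.Injective φ := by
  let π : B ⊗[A] A' →ₐ[A] B ⊗[A] (A' ⧸ q) :=
    Algebra.TensorProduct.map (AlgHom.id A B) (Ideal.Quotient.mkₐ A q)
  have h : RingHom.ker π =
      (RingHom.ker (Ideal.Quotient.mkₐ A q)).map
        (Algebra.TensorProduct.includeRight (R := A) (A := B) (B := A')) :=
    Algebra.TensorProduct.lTensor_ker (Ideal.Quotient.mkₐ A q) (Ideal.Quotient.mkₐ_surjective A q)
  rw [show RingHom.ker (Ideal.Quotient.mkₐ A q) = q from Ideal.mk_ker] at h
  refine ⟨Ideal.Quotient.lift _ (π : B ⊗[A] A' →+* B ⊗[A] (A' ⧸ q)) fun x hx => ?_,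
    (injective_iff_map_eq_zero _).2 fun y hy => ?_⟩
  · rw [← h] at hx
    exact hx
  · obtain ⟨x, rfl⟩ := Ideal.Quotient.mk_surjective y
    change π x = 0 at hy
    rw [Ideal.Quotient.eq_zero_iff_mem, ← h]
    exact hy

set_option synthInstance.maxHeartbeats 100000 in
/-- The local rings of the base change of the normalization are normal domains. -/
theorem isDomain_localization_baseChange [IsLocalRing A] [IsLocalRing B]
    [IsLocalHom (algebraMap A B)] [Module.Flat A B] [IsNoetherianRing B]
    (hm : (IsLocalRing.maximalIdeal A).map (algebraMap A B) = IsLocalRing.maximalIdeal B)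
    {A' : Type u} [CommRing A'] [Algebra A A'] [Module.Finite A A']
    (hloc : ∀ (q : Ideal A') [q.IsMaximal],
      IsDomain (Localization.AtPrime q) ∧ IsPrincipalIdealRing (Localization.AtPrime q))
    (hred : ∀ (q : Ideal A') [q.IsMaximal], IsReduced (B ⊗[A] (A' ⧸ q)))
    (n : Ideal (B ⊗[A] A')) [hn : n.IsMaximal] :
    IsDomain (Localization.AtPrime n) ∧ IsIntegrallyClosed (Localization.AtPrime n) := by
  have : Module.Finite B (B ⊗[A] A') := Module.Finite.base_change A B A'
  have : Algebra.IsIntegral B (B ⊗[A] A') := Algebra.IsIntegral.of_finite B _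
  have : IsNoetherianRing (B ⊗[A] A') := IsNoetherianRing.of_finite B _
  let : Algebra A' (B ⊗[A] A') := Algebra.TensorProduct.rightAlgebra
  have : Module.Flat A' (B ⊗[A] A') :=
    Module.Flat.of_linearEquiv (Algebra.TensorProduct.commRight A A' B).symm.toLinearEquiv
  have : Algebra.IsIntegral A A' := Algebra.IsIntegral.of_finite A _
  let q := n.comap (algebraMap A' (B ⊗[A] A'))
  have : q.IsPrime := Ideal.IsPrime.comap _
  have hnB : n.comap (algebraMap B (B ⊗[A] A')) = IsLocalRing.maximalIdeal B :=
    IsLocalRing.eq_maximalIdeal (Ideal.isMaximal_comap_of_isIntegral_of_isMaximal n)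
  have hqA : q.comap (algebraMap A A') = IsLocalRing.maximalIdeal A := by
    rw [Ideal.comap_comap]
    have e : (algebraMap A' (B ⊗[A] A')).comp (algebraMap A A') =
        (algebraMap B (B ⊗[A] A')).comp (algebraMap A B) := by
      ext a
      exact (Algebra.TensorProduct.includeRight (R := A) (A := B) (B := A')).commutes a |>.trans
        (IsScalarTower.algebraMap_apply A B (B ⊗[A] A') a)
    rw [e, ← Ideal.comap_comap, hnB]
    exact IsLocalRing.maximalIdeal_comap _
  have hqm : q.IsMaximal := Ideal.isMaximal_of_isIntegral_of_isMaximal_comap q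
    (hqA ▸ IsLocalRing.maximalIdeal.isMaximal A)
  obtain ⟨_, _⟩ := hloc q
  have hI : IsReduced ((B ⊗[A] A') ⧸ q.map (algebraMap A' (B ⊗[A] A'))) := by
    have := hred q
    obtain ⟨φ, hφ⟩ := exists_fibre_hom (B := B) (A := A) q
    exact isReduced_of_injective φ hφ
  refine isDomain_localization n q rfl hI (isArtinianRing_iff_krullDimLE_zero.2 ?_)
  refine Ring.KrullDimLE.mk₀ fun P hP => ?_
  let P' := P.comap (Ideal.Quotient.mk (q.map (algebraMap A' (B ⊗[A] A'))))
  have : P'.IsPrime := Ideal.IsPrime.comap _
  have hle : IsLocalRing.maximalIdeal B ≤ P'.comap (algebraMap B (B ⊗[A] A')) := by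
    rw [← hm, Ideal.map_le_iff_le_comap]
    intro a ha
    show Ideal.Quotient.mk _ (algebraMap B (B ⊗[A] A') (algebraMap A B a)) ∈ P
    have : algebraMap B (B ⊗[A] A') (algebraMap A B a) ∈ q.map (algebraMap A' (B ⊗[A] A')) := by
      rw [← IsScalarTower.algebraMap_apply A B (B ⊗[A] A'),
        ← (Algebra.TensorProduct.includeRight (R := A) (A := B) (B := A')).commutes a]
      refine Ideal.mem_map_of_mem (algebraMap A' (B ⊗[A] A')) ?_
      exact (hqA.ge ha : a ∈ q.comap (algebraMap A A'))
    rw [Ideal.Quotient.eq_zero_iff_mem.2 this]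
    exact P.zero_mem
  have hP'm : P'.IsMaximal := Ideal.isMaximal_of_isIntegral_of_isMaximal_comap P'
    ((IsLocalRing.maximalIdeal.isMaximal B).eq_of_le (Ideal.IsPrime.comap _).ne_top hle ▸
      IsLocalRing.maximalIdeal.isMaximal B)
  exact (Ideal.map_comap_of_surjective _ Ideal.Quotient.mk_surjective P) ▸
    (Ideal.map_eq_top_or_isMaximal_of_surjective _ Ideal.Quotient.mk_surjective hP'm).resolve_left
      (by rw [Ideal.map_comap_of_surjective _ Ideal.Quotient.mk_surjective]; exact hP.ne_top)

set_option synthInstance.maxHeartbeats 100000 in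
set_option maxHeartbeats 800000 in
/-- The integral closure of a flat extension is the base change of the normalization, in terms of
lengths of the quotients. -/
theorem length_quotient_eq [IsLocalRing A] [IsLocalRing B] [IsLocalHom (algebraMap A B)]
    [Module.Flat A B] [IsNoetherianRing B]
    (hm : (IsLocalRing.maximalIdeal A).map (algebraMap A B) = IsLocalRing.maximalIdeal B)
    {A' : Type u} [CommRing A'] [Algebra A A'] [Module.Finite A A']
    (j : A' →ₐ[A] FractionRing A) (hj : Function.Injective j)
    (hloc : ∀ (q : Ideal A') [q.IsMaximal],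
      IsDomain (Localization.AtPrime q) ∧ IsPrincipalIdealRing (Localization.AtPrime q))
    (hred : ∀ (q : Ideal A') [q.IsMaximal], IsReduced (B ⊗[A] (A' ⧸ q))) :
    Module.length B (↥(integralClosure B (FractionRing B)) ⧸
          LinearMap.range (Algebra.linearMap B ↥(integralClosure B (FractionRing B)))) =
      Module.length A (A' ⧸ LinearMap.range (Algebra.linearMap A A')) := by
  classical
  let QB := FractionRing B
  have hu : ∀ a : nonZeroDivisors A, IsUnit (algebraMap A QB a) := fun a => by
    rw [IsScalarTower.algebraMap_apply A B QB]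
    exact IsLocalization.map_units QB
      (⟨_, algebraMap_mem_nonZeroDivisors a.2⟩ : nonZeroDivisors B)
  let g : FractionRing A →ₐ[A] QB :=
    IsLocalization.liftAlgHom (M := nonZeroDivisors A) (f := Algebra.ofId A QB) hu
  let φ : B ⊗[A] FractionRing A →ₐ[B] QB :=
    Algebra.TensorProduct.lift (Algebra.ofId B QB) g fun x y => Commute.all _ _
  have hφ : Function.Injective φ := by
    refine (injective_iff_map_eq_zero φ).2 fun z hz => ?_
    obtain ⟨⟨b, m⟩, hzb⟩ := IsLocalization.surj
      (Algebra.algebraMapSubmonoid B (nonZeroDivisors A)) z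
    have h2 := congrArg φ hzb
    rw [map_mul, hz, zero_mul, AlgHom.commutes] at h2
    have hb : b = 0 := IsFractionRing.injective B QB (h2.symm.trans (map_zero _).symm)
    rw [hb, map_zero] at hzb
    exact (IsLocalization.map_units (B ⊗[A] FractionRing A) m).mul_left_eq_zero.1 hzb
  let ι : B ⊗[A] A' →ₐ[B] QB := φ.comp (Algebra.TensorProduct.map (AlgHom.id B B) j)
  have hι : Function.Injective ι := hφ.comp
    (Module.Flat.lTensor_preserves_injective_linearMap (M := B) j.toLinearMap hj)
  have : Module.Finite B (B ⊗[A] A') := Module.Finite.base_change A B A'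
  have : Algebra.IsIntegral B (B ⊗[A] A') := Algebra.IsIntegral.of_finite B _
  have : IsNoetherianRing (B ⊗[A] A') := IsNoetherianRing.of_finite B _
  have hclosed : ∀ (n : Ideal (B ⊗[A] A')) [n.IsMaximal],
      IsDomain (Localization.AtPrime n) ∧ IsIntegrallyClosed (Localization.AtPrime n) :=
    fun n _ => isDomain_localization_baseChange hm hloc hred n
  have hrange : ι.range = integralClosure B QB := by
    refine le_antisymm ?_ fun x hx => ?_
    · rintro _ ⟨c, rfl⟩
      exact IsIntegral.map ι (Algebra.IsIntegral.isIntegral c)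
    · obtain ⟨⟨b, d⟩, hbd⟩ := IsLocalization.surj (nonZeroDivisors B) x
      obtain ⟨P, hP, hPx⟩ := hx
      have hxi : ι.toRingHom.IsIntegralElem x :=
        ⟨P.map (algebraMap B (B ⊗[A] A')), hP.map _, by
          have he : ι.toRingHom.comp (algebraMap B (B ⊗[A] A')) = algebraMap B QB :=
            ι.comp_algebraMap
          rw [Polynomial.eval₂_map, he]; exact hPx⟩
      refine mem_range_of_isIntegral ι.toRingHom hι hclosed hxi
        (c := algebraMap B _ b) (d := algebraMap B _ d.1) ?_ ?_
      · change IsUnit (ι (algebraMap B _ d.1))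
        rw [AlgHom.commutes]
        exact IsLocalization.map_units QB d
      · change x * ι (algebraMap B _ d.1) = ι (algebraMap B _ b)
        rw [AlgHom.commutes, AlgHom.commutes]
        exact hbd
  let e : (B ⊗[A] A') ≃ₐ[B] integralClosure B QB :=
    (AlgEquiv.ofInjective ι hι).trans (Subalgebra.equivOfEq _ _ hrange)
  let f := Algebra.linearMap A A'
  let π : B ⊗[A] A' →ₗ[B] B ⊗[A] (A' ⧸ LinearMap.range f) :=
    AlgebraTensorModule.lTensor B B (LinearMap.range f).mkQ
  have hπ : Function.Surjective π :=
    LinearMap.lTensor_surjective B (Submodule.mkQ_surjective _)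
  have hkerπ : LinearMap.ker π = LinearMap.range (Algebra.linearMap B (B ⊗[A] A')) := by
    have hex : Function.Exact (f.lTensor B) ((LinearMap.range f).mkQ.lTensor B) :=
      lTensor_exact B (LinearMap.exact_map_mkQ_range f) (Submodule.mkQ_surjective _)
    have hone : ∀ b : B, algebraMap B (B ⊗[A] A') b = b ⊗ₜ[A] (1 : A') := fun b => rfl
    ext c
    constructor
    · intro hc
      obtain ⟨t, rfl⟩ := (hex c).1 hc
      clear hc
      induction t using TensorProduct.induction_on with
      | zero => exact ⟨0, by simp⟩
      | tmul b a => exact ⟨a • b, by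
          show algebraMap B (B ⊗[A] A') (a • b) = b ⊗ₜ[A] algebraMap A A' a
          rw [hone, Algebra.algebraMap_eq_smul_one, TensorProduct.smul_tmul]⟩
      | add x y hx hy => rw [map_add]; exact add_mem hx hy
    · rintro ⟨b, rfl⟩
      exact (hex _).2 ⟨b ⊗ₜ[A] (1 : A), by
        show b ⊗ₜ[A] algebraMap A A' 1 = algebraMap B (B ⊗[A] A') b
        rw [map_one, hone]⟩
  have hlen : Module.length B (B ⧸ (IsLocalRing.maximalIdeal A).map (algebraMap A B)) = 1 := by
    rw [hm, Module.length_eq_one_iff, isSimpleModule_iff_isCoatom]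
    exact Ideal.isMaximal_def.1 (IsLocalRing.maximalIdeal.isMaximal B)
  rw [← mul_one (Module.length A (A' ⧸ _)), ← hlen, ← IsLocalRing.length_baseChange A B,
    ← (π.quotKerEquivOfSurjective hπ).length_eq, hkerπ]
  refine (Submodule.Quotient.equiv _ _ e.toLinearEquiv ?_).length_eq.symm
  ext y
  constructor
  · rintro ⟨_, ⟨b, rfl⟩, rfl⟩
    exact ⟨b, (e.commutes b).symm⟩
  · rintro ⟨b, rfl⟩
    exact ⟨_, ⟨b, rfl⟩, e.commutes b⟩

/-- The δ-invariant is invariant under flat extensions with reduced fibres of the normalization. -/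
theorem deltaInv_eq [IsLocalRing A] [IsReduced A] [IsNoetherianRing A] [Ring.KrullDimLE 1 A]
    [Module.Finite A (integralClosure A (FractionRing A))]
    [IsLocalRing B] [IsLocalHom (algebraMap A B)] [Module.Flat A B] [IsNoetherianRing B]
    (hm : (IsLocalRing.maximalIdeal A).map (algebraMap A B) = IsLocalRing.maximalIdeal B)
    (hred : ∀ (q : Ideal (integralClosure A (FractionRing A))) [q.IsMaximal],
      IsReduced (B ⊗[A] (integralClosure A (FractionRing A) ⧸ q))) :
    Curv2.deltaInv B = Curv2.deltaInv A :=
  length_quotient_eq (A := A) (B := B) (A' := integralClosure A (FractionRing A)) hm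
    (integralClosure A (FractionRing A)).val Subtype.val_injective
    (fun q _ => by
      obtain ⟨hd, hic⟩ := ReducedNormalization.normal_localization (A := A) q
      exact ⟨hd, isPrincipalIdealRing_localization (A := A) q⟩) hred

end Groth.Agent.DeltaFlat
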