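import Mathlib

/-!
Fibres of a localisation of a base change, and the maximal ideal along such a map.
-/

namespace Groth.Agent.DeltaFlat

open TensorProduct

universe u

variable {R A S B F : Type u} [CommRing R] [CommRing A] [CommRing S] [CommRing B] [CommRing F]

/-- If `B` is a localisation of an `R`-algebra `S` and `A` one of `R`, then reducedness of
`S ⊗[R] F` gives that of `B ⊗[A] F`. -/
theorem isReduced_tensor_of_localization [Algebra R A] [Algebra R S] [Algebra S B] [Algebra R B]
    [IsScalarTower R S B] [Algebra A B] [IsScalarTower R A B] [Algebra A F] [Algebra R F]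
    [IsScalarTower R A F] (M : Submonoid R) [IsLocalization M A] (N : Submonoid S)
    [IsLocalization N B] (h : IsReduced (S ⊗[R] F)) : IsReduced (B ⊗[A] F) := by
  let : Algebra B ((S ⊗[R] F) ⊗[S] B) := Algebra.TensorProduct.rightAlgebra
  have : IsLocalization (Algebra.algebraMapSubmonoid (S ⊗[R] F) N) ((S ⊗[R] F) ⊗[S] B) :=
    (Algebra.isLocalization_iff_isPushout (A := B) N).2 inferInstance
  have h1 : IsReduced ((S ⊗[R] F) ⊗[S] B) :=
    isReduced_localizationPreserves (Algebra.algebraMapSubmonoid (S ⊗[R] F) N) _ h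
  have h2 : IsReduced (B ⊗[S] (S ⊗[R] F)) :=
    isReduced_of_injective (Algebra.TensorProduct.comm S B (S ⊗[R] F)) (AlgEquiv.injective _)
  let e1 := Algebra.TensorProduct.cancelBaseChange R S B B F
  have h3 : IsReduced (B ⊗[R] F) := isReduced_of_injective e1.symm e1.symm.injective
  let e2 := IsLocalization.algebraTensorEquiv M A B F
  exact isReduced_of_injective e2 e2.injective

/-- The base change of `F` along a pushout square. -/
theorem isReduced_tensor_of_isPushout {k K : Type u} [CommRing k] [CommRing K] [Algebra k R]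
    [Algebra k K] [Algebra k S] [Algebra R S] [IsScalarTower k R S] [Algebra K S]
    [IsScalarTower k K S] [Algebra.IsPushout k R K S] [Algebra R F] [Algebra k F]
    [IsScalarTower k R F] (h : IsReduced (F ⊗[k] K)) : IsReduced (S ⊗[R] F) := by
  let e1 : F ⊗[R] (R ⊗[k] K) ≃ₐ[R] F ⊗[k] K := Algebra.TensorProduct.cancelBaseChange k R R F K
  have h1 : IsReduced (F ⊗[R] (R ⊗[k] K)) := isReduced_of_injective e1 e1.injective
  let e2 : F ⊗[R] (R ⊗[k] K) ≃ₐ[R] F ⊗[R] S :=
    Algebra.TensorProduct.congr AlgEquiv.refl (Algebra.IsPushout.equiv k R K S)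
  have h2 : IsReduced (F ⊗[R] S) := isReduced_of_injective e2.symm e2.symm.injective
  exact isReduced_of_injective (Algebra.TensorProduct.comm R S F) (AlgEquiv.injective _)

/-- A flat local map into a one-dimensional ring with one reduced residual fibre over a
one-dimensional domain satisfies `m B = m_B`. -/
theorem map_maximalIdeal_eq [IsLocalRing A] [IsDomain A] (hA : ¬ IsField A) [IsLocalRing B]
    [Algebra A B] [IsLocalHom (algebraMap A B)] [Module.Flat A B] [Ring.KrullDimLE 1 B]
    [Algebra A F] [Nontrivial F] (hF : ∀ a ∈ IsLocalRing.maximalIdeal A, algebraMap A F a = 0)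
    (hred : IsReduced (B ⊗[A] F)) :
    (IsLocalRing.maximalIdeal A).map (algebraMap A B) = IsLocalRing.maximalIdeal B := by
  set m := IsLocalRing.maximalIdeal A with hmdef
  let f : A ⧸ m →ₐ[A] F := Ideal.Quotient.liftₐ m (Algebra.ofId A F) hF
  have hf : Function.Injective f := by
    let : Field (A ⧸ m) := Ideal.Quotient.field m
    exact RingHom.injective f.toRingHom
  let g : B ⊗[A] (A ⧸ m) →ₐ[A] B ⊗[A] F := Algebra.TensorProduct.map (AlgHom.id A B) f
  have hg : Function.Injective g :=
    Module.Flat.lTensor_preserves_injective_linearMap (M := B) f.toLinearMap hf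
  have h1 : IsReduced (B ⊗[A] (A ⧸ m)) := isReduced_of_injective g hg
  let e := Algebra.TensorProduct.quotIdealMapEquivTensorQuot B m
  have h2 : IsReduced (B ⧸ m.map (algebraMap A B)) := isReduced_of_injective e e.injective
  have hrad : (m.map (algebraMap A B)).IsRadical :=
    (Ideal.isRadical_iff_quotient_reduced _).2 h2
  refine le_antisymm (IsLocalRing.le_maximalIdeal fun h => ?_) ?_
  · have hle : m.map (algebraMap A B) ≤ IsLocalRing.maximalIdeal B := by
      rw [Ideal.map_le_iff_le_comap, IsLocalRing.maximalIdeal_comap]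
    exact (IsLocalRing.maximalIdeal.isMaximal B).ne_top (top_le_iff.1 (h ▸ hle))
  rw [← hrad.radical, Ideal.radical_eq_sInf]
  refine le_sInf ?_
  rintro P ⟨hP, hPp⟩
  rcases Ring.krullDimLE_one_iff.1 inferInstance P hPp with hmin | hmax
  · exfalso
    have hPm : P.comap (algebraMap A B) = m :=
      ((IsLocalRing.maximalIdeal.isMaximal A).eq_of_le (Ideal.IsPrime.comap _).ne_top
        (Ideal.map_le_iff_le_comap.1 hP)).symm
    have : P.LiesOver m := ⟨hPm.symm⟩
    have hlt : (⊥ : Ideal A) < m := bot_lt_iff_ne_bot.2 fun h =>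
      hA ((IsLocalRing.isField_iff_maximalIdeal_eq).2 h)
    obtain ⟨P0, hP0, hP0p, -⟩ := Ideal.exists_ideal_lt_liesOver_of_lt P hlt
    exact hP0.not_ge (hmin.2 ⟨hP0p, bot_le⟩ hP0.le)
  · exact (IsLocalRing.eq_maximalIdeal hmax).ge

end Groth.Agent.DeltaFlat
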