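import Mathlib

/-!
Reducedness of residual fibres along local maps with separable residue field extension.
-/

namespace Groth.Agent.DeltaFlat

open TensorProduct

universe u

/-- The tensor product of a field with a separable algebraic field extension is reduced. -/
theorem isReduced_tensor_of_isSeparable (k K L : Type u) [Field k] [Field K] [Field L]
    [Algebra k K] [Algebra k L] [Algebra.IsSeparable k L] : IsReduced (K ⊗[k] L) := by
  refine IsReduced.tensorProduct_of_flat_of_forall_fg fun D hD => ?_
  have : Algebra.FiniteType k D := (Subalgebra.fg_iff_finiteType D).1 hD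
  have : Algebra.IsIntegral k D := Algebra.IsIntegral.of_injective D.val Subtype.val_injective
  have : Module.Finite k D := Algebra.IsIntegral.finite
  have : IsField D := isField_of_isIntegral_of_isField' (Field.toIsField k)
  let := this.toField
  have : Algebra.IsSeparable k D := Algebra.IsSeparable.of_algHom k L D.val
  have : Algebra.FormallyUnramified k D := Algebra.FormallyUnramified.of_isSeparable k D
  exact Algebra.FormallyUnramified.isReduced_of_field K (K ⊗[k] D)

/-- The residual fibres of a local map with `m B = m_B` and separable residue extension are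
reduced. -/
theorem isReduced_tensor_quotient {A B : Type u} [CommRing A] [CommRing B] [Algebra A B]
    [IsLocalRing A] [IsLocalRing B] [IsLocalHom (algebraMap A B)]
    (hm : (IsLocalRing.maximalIdeal A).map (algebraMap A B) = IsLocalRing.maximalIdeal B)
    [Algebra.IsSeparable (IsLocalRing.ResidueField A) (IsLocalRing.ResidueField B)]
    {A' : Type u} [CommRing A'] [Algebra A A'] [Module.Finite A A'] (q : Ideal A')
    [hq : q.IsMaximal] : IsReduced (B ⊗[A] (A' ⧸ q)) := by
  let F := A' ⧸ q
  let : Field F := Ideal.Quotient.field q
  have : Algebra.IsIntegral A A' := Algebra.IsIntegral.of_finite A _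
  have hk : ∀ a ∈ IsLocalRing.maximalIdeal A, algebraMap A F a = 0 := by
    intro a ha
    rw [← IsLocalRing.eq_maximalIdeal (Ideal.isMaximal_comap_of_isIntegral_of_isMaximal (R := A) q)]
      at ha
    exact Ideal.Quotient.eq_zero_iff_mem.2 ha
  let : Algebra (IsLocalRing.ResidueField A) F :=
    (Ideal.Quotient.lift (IsLocalRing.maximalIdeal A) (algebraMap A F) hk).toAlgebra
  have : IsScalarTower A (IsLocalRing.ResidueField A) F := IsScalarTower.of_algebraMap_eq fun a => rfl
  let κB := IsLocalRing.ResidueField B
  let r : B →ₐ[A] κB := IsScalarTower.toAlgHom A B κB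
  let ψ : B ⊗[A] F →ₐ[A] κB ⊗[A] F := Algebra.TensorProduct.map r (AlgHom.id A F)
  have hker : RingHom.ker ψ = ⊥ := by
    have h : RingHom.ker ψ = (RingHom.ker r).map
        (Algebra.TensorProduct.includeLeft (R := A) (S := A) (A := B) (B := F)) :=
      Algebra.TensorProduct.rTensor_ker r IsLocalRing.residue_surjective
    rw [h, show RingHom.ker r = IsLocalRing.maximalIdeal B from IsLocalRing.ker_residue, ← hm,
      eq_bot_iff, Ideal.map_le_iff_le_comap, Ideal.map_le_iff_le_comap]
    intro a ha
    change algebraMap A B a ⊗ₜ[A] (1 : F) ∈ (⊥ : Ideal (B ⊗[A] F))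
    rw [Ideal.mem_bot]
    rw [Algebra.algebraMap_eq_smul_one, TensorProduct.smul_tmul, ← Algebra.algebraMap_eq_smul_one,
      hk a ha, TensorProduct.tmul_zero]
  have : TensorProduct.CompatibleSMul A (IsLocalRing.ResidueField A) κB F :=
    TensorProduct.CompatibleSMul.of_algebraMap_surjective _ _ IsLocalRing.residue_surjective
  have : IsReduced (F ⊗[IsLocalRing.ResidueField A] κB) :=
    isReduced_tensor_of_isSeparable _ F κB
  have h1 : IsReduced (κB ⊗[IsLocalRing.ResidueField A] F) :=
    isReduced_of_injective (Algebra.TensorProduct.comm (IsLocalRing.ResidueField A) κB F)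
      (AlgEquiv.injective _)
  let e := Algebra.TensorProduct.equivOfCompatibleSMul (IsLocalRing.ResidueField A) A A κB F
  have h2 : IsReduced (κB ⊗[A] F) :=
    isReduced_of_injective e e.injective
  exact isReduced_of_injective ψ ((RingHom.injective_iff_ker_eq_bot _).2 hker)

end Groth.Agent.DeltaFlat
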