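import Groth.Prelude.Def_Curv2
import Groth.Agent.NormalizationAffine.Basic
import Groth.Agent.DeltaFlat.BaseField

/-!
Residue fields of the normalization, and sections of a base change to a field.
-/

set_option autoImplicit false

namespace Groth.Agent.DeltaFlat

universe u

open CategoryTheory CategoryTheory.Limits AlgebraicGeometry TensorProduct NormalizationAffine

variable {X : Scheme.{u}} [IsIntegral X]
  [QuasiCompact (X.fromSpecStalk (genericPoint X))] [QuasiSeparated (X.fromSpecStalk (genericPoint X))]

/-- The residue fields of the integral closure of a local ring embed in residue fields of the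
normalization over the point. -/
theorem exists_residue_hom (x : X)
    (Q : Ideal (integralClosure (X.presheaf.stalk x) X.functionField)) [Q.IsMaximal] :
    ∃ (x' : ↥(Curv2.normalization X)), (Curv2.normalizationι X).base x' = x ∧
      ∃ θ : (integralClosure (X.presheaf.stalk x) X.functionField ⧸ Q) →+*
          (Curv2.normalization X).residueField x', Function.Injective θ ∧
        ∀ c : Γ(X, ⊤), θ (Ideal.Quotient.mk Q (algebraMap _ _ (X.presheaf.germ ⊤ x trivial c))) =
          ((Curv2.normalization X).residue x').hom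
            ((Curv2.normalization X).presheaf.germ ⊤ x' trivial
              ((Curv2.normalizationι X).appTop c)) := by
  classical
  obtain ⟨U, hU, hxU, -⟩ := exists_isAffineOpen_mem_and_subset (show x ∈ (⊤ : X.Opens) from trivial)
  have : Nonempty U := ⟨⟨_, hxU⟩⟩
  have := isIntegralClosure_sect hU
  let algS : Algebra Γ(X, U) (X.presheaf.stalk x) :=
    TopCat.Presheaf.algebra_section_stalk X.presheaf ⟨x, hxU⟩
  have : IsScalarTower Γ(X, U) (X.presheaf.stalk x) X.functionField :=
    functionField_isScalarTower X U ⟨x, hxU⟩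
  set p := (hU.primeIdealOf ⟨x, hxU⟩).asIdeal with hp
  have hSloc : IsLocalization.AtPrime (X.presheaf.stalk x) p := hU.isLocalization_stalk ⟨x, hxU⟩
  let C := integralClosure (X.presheaf.stalk x) X.functionField
  let j : Sect U →+* C := RingHom.codRestrict (toK U) C fun b =>
    ((IsIntegralClosure.isIntegral_iff (A := Sect U) (R := Γ(X, U)) (B := X.functionField)).mpr
      ⟨b, rfl⟩).tower_top
  have hj : Function.Injective j := fun a b h =>
    IsIntegralClosure.algebraMap_injective (Sect U) Γ(X, U) X.functionField (congrArg Subtype.val h :)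
  have hjA : ∀ a : Γ(X, U), j (algebraMap Γ(X, U) (Sect U) a) =
      algebraMap (X.presheaf.stalk x) C (algebraMap Γ(X, U) (X.presheaf.stalk x) a) := fun a =>
    Subtype.ext ((toK_algebraMap U a).trans
      (IsScalarTower.algebraMap_apply Γ(X, U) (X.presheaf.stalk x) X.functionField a))
  let algC : Algebra (Sect U) C := j.toAlgebra
  have hCloc : IsLocalization (Algebra.algebraMapSubmonoid (Sect U) p.primeCompl) C := by
    constructor
    refine ⟨?_, fun c => ?_, fun {a b} h => ⟨1, by rw [hj h]⟩⟩
    · rintro ⟨_, s, hs, rfl⟩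
      show IsUnit (j (algebraMap Γ(X, U) (Sect U) s))
      rw [hjA]
      exact (IsLocalization.map_units (X.presheaf.stalk x) (⟨s, hs⟩ : p.primeCompl)).map _
    · obtain ⟨⟨s, hs⟩, hint⟩ :=
        (show IsIntegral (X.presheaf.stalk x) (c : X.functionField) from c.2).exists_multiple_integral_of_isLocalization
          p.primeCompl _
      obtain ⟨b, hb⟩ := (IsIntegralClosure.isIntegral_iff (A := Sect U) (R := Γ(X, U))
        (B := X.functionField)).mp hint
      refine ⟨⟨b, algebraMap Γ(X, U) (Sect U) s, s, hs, rfl⟩, ?_⟩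
      show c * j (algebraMap Γ(X, U) (Sect U) s) = j b
      rw [hjA]
      refine Subtype.ext ?_
      show (c : X.functionField) * algebraMap (X.presheaf.stalk x) X.functionField
        (algebraMap Γ(X, U) (X.presheaf.stalk x) s) = toK U b
      rw [← IsScalarTower.algebraMap_apply, show toK U b = algebraMap (Sect U) X.functionField b from rfl,
        hb, Submonoid.mk_smul, Algebra.smul_def, mul_comm]
  have hQA : Q.comap (algebraMap (X.presheaf.stalk x) C) = IsLocalRing.maximalIdeal _ :=
    IsLocalRing.eq_maximalIdeal (Ideal.isMaximal_comap_of_isIntegral_of_isMaximal Q)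
  set Q' := Q.comap j with hQ'
  have hQp : Q'.comap (algebraMap Γ(X, U) (Sect U)) = p := by
    ext a
    rw [Ideal.mem_comap, hQ', Ideal.mem_comap, hjA, ← Ideal.mem_comap, hQA]
    exact IsLocalization.AtPrime.to_map_mem_maximal_iff (X.presheaf.stalk x) p a
  have hV := isAffineOpen_preimage (X := X) hU
  let z : PrimeSpectrum (Sect U) := ⟨Q', inferInstance⟩
  set x' := hV.fromSpec z with hx'
  have hx'V : x' ∈ (Curv2.normalizationι X) ⁻¹ᵁ U := by
    show x' ∈ (((Curv2.normalizationι X) ⁻¹ᵁ U : (Curv2.normalization X).Opens) : Set _)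
    rw [← hV.range_fromSpec]
    exact ⟨z, rfl⟩
  have hz : hV.primeIdealOf ⟨x', hx'V⟩ = z :=
    hV.fromSpec.isOpenEmbedding.injective (hV.fromSpec_primeIdealOf ⟨x', hx'V⟩)
  have hbase : (Curv2.normalizationι X).base x' = x := by
    have h := IsAffineOpen.comap_primeIdealOf_appLE (f := Curv2.normalizationι X) (x := x') U hU
      ((Curv2.normalizationι X) ⁻¹ᵁ U) hV le_rfl hx'V
    rw [← Scheme.Hom.app_eq_appLE, hz] at h
    have h' : hU.primeIdealOf ⟨(Curv2.normalizationι X).base x', hx'V⟩ =
        hU.primeIdealOf ⟨x, hxU⟩ := h.symm.trans (PrimeSpectrum.ext hQp)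
    have h'' := congrArg hU.fromSpec h'
    rwa [hU.fromSpec_primeIdealOf, hU.fromSpec_primeIdealOf] at h''
  refine ⟨x', hbase, ?_⟩
  let algY : Algebra (Sect U) ((Curv2.normalization X).presheaf.stalk x') :=
    TopCat.Presheaf.algebra_section_stalk (Curv2.normalization X).presheaf ⟨x', hx'V⟩
  have hYloc : IsLocalization.AtPrime ((Curv2.normalization X).presheaf.stalk x') Q' := by
    have := hV.isLocalization_stalk ⟨x', hx'V⟩
    rwa [hz] at this
  have hunits : ∀ s : Algebra.algebraMapSubmonoid (Sect U) p.primeCompl,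
      IsUnit (algebraMap (Sect U) ((Curv2.normalization X).presheaf.stalk x') s) := by
    rintro ⟨_, s, hs, rfl⟩
    exact IsLocalization.map_units _
      (⟨algebraMap Γ(X, U) (Sect U) s, fun h => hs (hQp.le h)⟩ : Q'.primeCompl)
  let g : C →+* (Curv2.normalization X).residueField x' :=
    ((Curv2.normalization X).residue x').hom.comp (IsLocalization.lift hunits)
  have hgj : ∀ b, g (j b) = ((Curv2.normalization X).residue x').hom
      (algebraMap (Sect U) ((Curv2.normalization X).presheaf.stalk x') b) := fun b =>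
    congrArg ((Curv2.normalization X).residue x').hom (IsLocalization.lift_eq hunits b)
  have : (RingHom.ker g).IsPrime := RingHom.ker_isPrime g
  have hker : RingHom.ker g = Q := by
    rw [← IsLocalization.map_under (Algebra.algebraMapSubmonoid (Sect U) p.primeCompl) C
      (RingHom.ker g), ← IsLocalization.map_under (Algebra.algebraMapSubmonoid (Sect U) p.primeCompl) C Q]
    congr 1
    ext b
    show g (j b) = 0 ↔ b ∈ Q'
    rw [hgj]
    exact (IsLocalRing.residue_eq_zero_iff _).trans
      (IsLocalization.AtPrime.to_map_mem_maximal_iff _ Q' b)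
  refine ⟨Ideal.Quotient.lift Q g fun a ha => RingHom.mem_ker.1 (hker.ge ha), ?_, fun c => ?_⟩
  · rw [injective_iff_map_eq_zero]
    intro a ha
    obtain ⟨a, rfl⟩ := Ideal.Quotient.mk_surjective a
    change g a = 0 at ha
    exact Ideal.Quotient.eq_zero_iff_mem.2 (hker.le ha)
  · have e1 : X.presheaf.germ ⊤ x trivial c =
        algebraMap Γ(X, U) (X.presheaf.stalk x) (X.presheaf.map (homOfLE le_top).op c) :=
      (TopCat.Presheaf.germ_res_apply X.presheaf (homOfLE le_top) x hxU c).symm
    show g (algebraMap _ C (X.presheaf.germ ⊤ x trivial c)) = _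
    rw [e1, ← hjA, hgj]
    refine congrArg ((Curv2.normalization X).residue x').hom ?_
    show (Curv2.normalization X).presheaf.germ _ x' hx'V
      ((Curv2.normalizationι X).app U (X.presheaf.map (homOfLE le_top).op c)) = _
    have e2 := ConcreteCategory.congr_hom ((Curv2.normalizationι X).naturality
      (homOfLE (le_top : U ≤ ⊤)).op) c
    refine Eq.trans (congrArg _ e2) ?_
    exact TopCat.Presheaf.germ_res_apply (Curv2.normalization X).presheaf _ x' hx'V _

end Groth.Agent.DeltaFlat

namespace Groth.Agent.DeltaFlat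

universe v

open CategoryTheory CategoryTheory.Limits AlgebraicGeometry TensorProduct

/-- Geometric reducedness of a field extension, in terms of tensor products. -/
theorem isReduced_tensor_of_geometricallyReduced {k L K : Type v} [Field k] [Field L] [Field K]
    [Algebra k L] [Algebra k K]
    (h : GeometricallyReduced (Spec.map (CommRingCat.ofHom (algebraMap k L)))) :
    _root_.IsReduced (L ⊗[k] K) := by
  have h1 : AlgebraicGeometry.IsReduced (pullback (Spec.map (CommRingCat.ofHom (algebraMap k L)))
      (Spec.map (CommRingCat.ofHom (algebraMap k K)))) :=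
    h.geometrically_isReduced _ _ _ (.of_hasPullback _ _)
  exact (affine_isReduced_iff (CommRingCat.of (L ⊗[k] K))).1
    (isReduced_of_isOpenImmersion (pullbackSpecIso k L K).inv)

/-- An algebra over a field which embeds in a geometrically reduced one. -/
theorem isReduced_tensor_of_injective {k L K : Type v} [Field k] [Field K] [Algebra k K]
    [CommRing L] [Algebra k L] {M : Type v} [CommRing M] [Algebra k M] (θ : L →ₐ[k] M)
    (hθ : Function.Injective θ) (h : _root_.IsReduced (M ⊗[k] K)) :
    _root_.IsReduced (L ⊗[k] K) :=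
  isReduced_of_injective (Algebra.TensorProduct.map θ (AlgHom.id k K))
    (Module.Flat.rTensor_preserves_injective_linearMap (M := K) θ.toLinearMap hθ)

variable {k : Type v} [Field k] {X : Scheme.{v}} (f : X ⟶ Spec (CommRingCat.of k)) (K : Type v)
  [Field K] [Algebra k K]

/-- The sections over an affine open of the scalars. -/
noncomputable abbrev scalar (U : X.Opens) : CommRingCat.of k ⟶ Γ(X, U) :=
  (Scheme.ΓSpecIso (CommRingCat.of k)).inv ≫ f.appLE ⊤ U (by simp)

/-- The stalk of a base change to a field is a localisation of a pushout of the sections on an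
affine open. -/
theorem exists_chart (y : ↥(pullback f (Spec.map (CommRingCat.ofHom (algebraMap k K)))))
    {U : X.Opens} (hU : IsAffineOpen U)
    (hy : (pullback.fst f (Spec.map (CommRingCat.ofHom (algebraMap k K)))).base y ∈ U) :
    let B := (pullback f (Spec.map (CommRingCat.ofHom (algebraMap k K)))).presheaf.stalk y
    ∃ (S : CommRingCat.{v}) (ψ : Γ(X, U) ⟶ S) (ω : CommRingCat.of K ⟶ S) (χ : S ⟶ B)
      (P : Ideal S) (_ : P.IsPrime),
      CategoryTheory.IsPushout (scalar f U) (CommRingCat.ofHom (algebraMap k K)) ψ ω ∧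
      ψ ≫ χ = X.presheaf.germ U _ hy ≫
        (pullback.fst f (Spec.map (CommRingCat.ofHom (algebraMap k K)))).stalkMap y ∧
      (letI := χ.hom.toAlgebra; IsLocalization.AtPrime B P) := by
  intro B
  let g := Spec.map (CommRingCat.ofHom (algebraMap k K))
  set W := pullback.fst f g ⁻¹ᵁ U ⊓ pullback.snd f g ⁻¹ᵁ ⊤ with hW
  have hpb : IsPullback (pullback.fst f g) (pullback.snd f g) f g := .of_hasPullback _ _
  have hWaff : IsAffineOpen W := by
    have : IsAffine (⊤ : (Spec (CommRingCat.of k)).Opens) := isAffineOpen_top _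
    have : IsAffine (⊤ : (Spec (CommRingCat.of K)).Opens) := isAffineOpen_top _
    have : IsAffine U := hU
    exact .of_isIso (Scheme.Hom.isPullback_resLE hpb (show (⊤ : (Spec (CommRingCat.of K)).Opens) ≤ g ⁻¹ᵁ ⊤ by simp)
      (show U ≤ f ⁻¹ᵁ ⊤ by simp) hW).isoPullback.hom
  have hp := (isIso_pushoutSection_iff hpb (show (⊤ : (Spec (CommRingCat.of K)).Opens) ≤ g ⁻¹ᵁ ⊤ by simp)
      (show U ≤ f ⁻¹ᵁ ⊤ by simp) hW).1
    (isIso_pushoutSection_of_isAffineOpen hpb _ _ hW (isAffineOpen_top _) (isAffineOpen_top _) hU)
  have hyW : y ∈ W := ⟨hy, trivial⟩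
  refine ⟨Γ(pullback f g, W), (pullback.fst f g).appLE U W inf_le_left,
    (Scheme.ΓSpecIso (CommRingCat.of K)).inv ≫ (pullback.snd f g).appLE ⊤ W inf_le_right,
    (pullback f g).presheaf.germ W y hyW, (hWaff.primeIdealOf ⟨y, hyW⟩).asIdeal, inferInstance,
    ?_, ?_, hWaff.isLocalization_stalk ⟨y, hyW⟩⟩
  · refine CategoryTheory.IsPushout.of_iso hp (Scheme.ΓSpecIso (CommRingCat.of k)) (Iso.refl _)
      (Scheme.ΓSpecIso (CommRingCat.of K)) (Iso.refl _) ?_ ?_ ?_ ?_
    · simp [scalar]
    · show (g.appLE ⊤ ⊤ _) ≫ (Scheme.ΓSpecIso _).hom = _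
      rw [show g.appLE ⊤ ⊤ (by simp) = g.appTop from (Scheme.Hom.app_eq_appLE _).symm]
      exact Scheme.ΓSpecIso_naturality _
    · simp
    · simp
  · rw [Scheme.Hom.germ_stalkMap, Scheme.Hom.appLE, Category.assoc, TopCat.Presheaf.germ_res]

end Groth.Agent.DeltaFlat
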